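import Cfsg.Agent.Spor.HLn1.D0

set_option autoImplicit false
set_option maxRecDepth 100000000
set_option Elab.async false

namespace Cfsg.Agent.Spor.HLn1

theorem ok0 : Net.okb 8 n0 = true := by decide +kernel

theorem ok1 : Net.okb 8 n1 = true := by decide +kernel

theorem ok2 : Net.okb 8 n2 = true := by decide +kernel

theorem ok3 : Net.okb 8 n3 = true := by decide +kernel

theorem ok4 : Net.okb 8 n4 = true := by decide +kernel

theorem ok5 : Net.okb 8 n5 = true := by decide +kernel

theorem ok6 : Net.okb 8 n6 = true := by decide +kernel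

theorem ok7 : Net.okb 8 n7 = true := by decide +kernel

theorem ok8 : Net.okb 8 n8 = true := by decide +kernel

theorem ok9 : Net.okb 8 n9 = true := by decide +kernel

theorem ok10 : Net.okb 8 n10 = true := by decide +kernel

theorem ok11 : Net.okb 8 n11 = true := by decide +kernel

theorem rel0 : T.rel 8 [1, 1] 0 8 = true := by decide +kernel

theorem rel1 : T.rel 8 [2, 2] 0 8 = true := by decide +kernel

theorem rel2 : T.rel 8 [3, 3] 0 8 = true := by decide +kernel

theorem rel3 : T.rel 8 [4, 4] 0 8 = true := by decide +kernel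

theorem rel4 : T.rel 8 [5, 5] 0 8 = true := by decide +kernel

theorem rel5 : T.rel 8 [6, 6] 0 8 = true := by decide +kernel

theorem rel6 : T.rel 8 [7, 7] 0 8 = true := by decide +kernel

theorem rel7 : T.rel 8 [8, 8] 0 8 = true := by decide +kernel

theorem rel8 : T.rel 8 [9, 9] 0 8 = true := by decide +kernel

theorem rel9 : T.rel 8 [10, 10] 0 8 = true := by decide +kernel

theorem rel10 : T.rel 8 [11, 11] 0 8 = true := by decide +kernel

theorem rel11 : T.rel 8 [12, 12] 0 8 = true := by decide +kernel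

theorem rel12 : T.rel 8 [2, 1, 2, 1] 0 8 = true := by decide +kernel

theorem rel13 : T.rel 8 [3, 1, 3, 1] 0 8 = true := by decide +kernel

theorem rel14 : T.rel 8 [4, 1, 4, 1] 0 8 = true := by decide +kernel

theorem rel15 : T.rel 8 [2, 5, 1, 5, 1] 0 8 = true := by decide +kernel

theorem rel16 : T.rel 8 [3, 6, 1, 6, 1] 0 8 = true := by decide +kernel

theorem rel17 : T.rel 8 [4, 7, 1, 7, 1] 0 8 = true := by decide +kernel

theorem rel18 : T.rel 8 [8, 1, 8, 1] 0 8 = true := by decide +kernel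

theorem rel19 : T.rel 8 [9, 1, 9, 1] 0 8 = true := by decide +kernel

theorem rel20 : T.rel 8 [10, 1, 10, 1] 0 8 = true := by decide +kernel

theorem rel21 : T.rel 8 [3, 2, 3, 2] 0 8 = true := by decide +kernel

theorem rel22 : T.rel 8 [4, 2, 4, 2] 0 8 = true := by decide +kernel

theorem rel23 : T.rel 8 [5, 2, 5, 2] 0 8 = true := by decide +kernel

theorem rel24 : T.rel 8 [6, 2, 6, 2] 0 8 = true := by decide +kernel

theorem rel25 : T.rel 8 [7, 2, 7, 2] 0 8 = true := by decide +kernel

theorem rel26 : T.rel 8 [3, 8, 2, 8, 2] 0 8 = true := by decide +kernel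

theorem rel27 : T.rel 8 [4, 9, 2, 9, 2] 0 8 = true := by decide +kernel

theorem rel28 : T.rel 8 [10, 2, 10, 2] 0 8 = true := by decide +kernel

theorem rel29 : T.rel 8 [4, 3, 4, 3] 0 8 = true := by decide +kernel

theorem rel30 : T.rel 8 [5, 3, 5, 3] 0 8 = true := by decide +kernel

theorem rel31 : T.rel 8 [6, 3, 6, 3] 0 8 = true := by decide +kernel

theorem rel32 : T.rel 8 [7, 3, 7, 3] 0 8 = true := by decide +kernel

theorem rel33 : T.rel 8 [8, 3, 8, 3] 0 8 = true := by decide +kernel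

theorem rel34 : T.rel 8 [9, 3, 9, 3] 0 8 = true := by decide +kernel

theorem rel35 : T.rel 8 [4, 10, 3, 10, 3] 0 8 = true := by decide +kernel

theorem rel36 : T.rel 8 [5, 4, 5, 4] 0 8 = true := by decide +kernel

theorem rel37 : T.rel 8 [6, 4, 6, 4] 0 8 = true := by decide +kernel

theorem rel38 : T.rel 8 [7, 4, 7, 4] 0 8 = true := by decide +kernel

theorem rel39 : T.rel 8 [8, 4, 8, 4] 0 8 = true := by decide +kernel

theorem rel40 : T.rel 8 [9, 4, 9, 4] 0 8 = true := by decide +kernel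

theorem rel41 : T.rel 8 [10, 4, 10, 4] 0 8 = true := by decide +kernel

theorem rel42 : T.rel 8 [6, 5, 6, 5] 0 8 = true := by decide +kernel

theorem rel43 : T.rel 8 [7, 5, 7, 5] 0 8 = true := by decide +kernel

theorem rel44 : T.rel 8 [6, 8, 5, 8, 5] 0 8 = true := by decide +kernel

theorem rel45 : T.rel 8 [7, 9, 5, 9, 5] 0 8 = true := by decide +kernel

theorem rel46 : T.rel 8 [10, 5, 10, 5] 0 8 = true := by decide +kernel

theorem rel47 : T.rel 8 [7, 6, 7, 6] 0 8 = true := by decide +kernel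

theorem rel48 : T.rel 8 [8, 6, 8, 6] 0 8 = true := by decide +kernel

theorem rel49 : T.rel 8 [9, 6, 9, 6] 0 8 = true := by decide +kernel

theorem rel50 : T.rel 8 [7, 10, 6, 10, 6] 0 8 = true := by decide +kernel

theorem rel51 : T.rel 8 [8, 7, 8, 7] 0 8 = true := by decide +kernel

theorem rel52 : T.rel 8 [9, 7, 9, 7] 0 8 = true := by decide +kernel

theorem rel53 : T.rel 8 [10, 7, 10, 7] 0 8 = true := by decide +kernel

theorem rel54 : T.rel 8 [9, 8, 9, 8] 0 8 = true := by decide +kernel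

theorem rel55 : T.rel 8 [9, 10, 8, 10, 8] 0 8 = true := by decide +kernel

theorem rel56 : T.rel 8 [10, 9, 10, 9] 0 8 = true := by decide +kernel

theorem rel57 : T.rel 8 [1, 11, 1, 11] 0 8 = true := by decide +kernel

theorem rel58 : T.rel 8 [3, 11, 2, 11] 0 8 = true := by decide +kernel

theorem rel59 : T.rel 8 [4, 11, 4, 11] 0 8 = true := by decide +kernel

theorem rel60 : T.rel 8 [6, 11, 5, 11] 0 8 = true := by decide +kernel

theorem rel61 : T.rel 8 [7, 11, 7, 11] 0 8 = true := by decide +kernel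

theorem rel62 : T.rel 8 [8, 11, 8, 11, 8, 11] 0 8 = true := by decide +kernel

theorem rel63 : T.rel 8 [10, 11, 9, 11] 0 8 = true := by decide +kernel

theorem rel64 : T.rel 8 [9, 8, 4, 3, 1, 12, 1, 12] 0 8 = true := by decide +kernel

theorem rel65 : T.rel 8 [7, 6, 4, 3, 2, 12, 2, 12] 0 8 = true := by decide +kernel

theorem rel66 : T.rel 8 [4, 12, 3, 12] 0 8 = true := by decide +kernel

theorem rel67 : T.rel 8 [4, 3, 5, 12, 5, 12] 0 8 = true := by decide +kernel

theorem rel68 : T.rel 8 [7, 12, 6, 12] 0 8 = true := by decide +kernel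

theorem rel69 : T.rel 8 [9, 12, 8, 12] 0 8 = true := by decide +kernel

theorem rel70 : T.rel 8 [10, 12, 10, 12, 10, 12] 0 8 = true := by decide +kernel

theorem rel71 : T.rel 8 [11, 12, 11, 12, 11, 12, 11, 12, 11, 12] 0 8 = true := by decide +kernel

theorem hcov : T.treeCov (ones 135) L 1 = true := by decide +kernel

theorem hg : lall (fun z => band (memL L z) (band (sub (ones 135) (T.let z).cl) (T.closed (ones 135) z))) gs = true := by decide +kernel

theorem rot1_1 : T.rot 1 [1] (sel (ones 135) ip1 1) = true := by decide +kernel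

theorem rot1_1r : band (Rule.ok (2 * 12) EX RL ⟨1 :: [1], [], 60, false⟩) (lall (memL L) [1]) = true := by decide +kernel

theorem rot1_2 : T.rot 1 [8, 1, 8] (sel (ones 135) ip1 2) = true := by decide +kernel

theorem rot1_2r : band (Rule.ok (2 * 12) EX RL ⟨1 :: [8, 1, 8], [], 6, false⟩) (lall (memL L) [8, 1, 8]) = true := by decide +kernel

theorem rot1_3 : T.rot 1 [9, 1, 9] (sel (ones 135) ip1 3) = true := by decide +kernel

theorem rot1_3r : band (Rule.ok (2 * 12) EX RL ⟨1 :: [9, 1, 9], [], 7, false⟩) (lall (memL L) [9, 1, 9]) = true := by decide +kernel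

theorem rot1_4 : T.rot 1 [10, 1, 10] (sel (ones 135) ip1 4) = true := by decide +kernel

theorem rot1_4r : band (Rule.ok (2 * 12) EX RL ⟨1 :: [10, 1, 10], [], 8, false⟩) (lall (memL L) [10, 1, 10]) = true := by decide +kernel

theorem rot1_5 : T.rot 1 [11, 1, 11] (sel (ones 135) ip1 5) = true := by decide +kernel

theorem rot1_5r : band (Rule.ok (2 * 12) EX RL ⟨1 :: [11, 1, 11], [], 45, true⟩) (lall (memL L) [11, 1, 11]) = true := by decide +kernel

theorem rot1_6 : T.rot 1 [12, 1, 12, 9, 8, 4, 3] (sel (ones 135) ip1 6) = true := by decide +kernel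

theorem rot1_6r : band (Rule.ok (2 * 12) EX RL ⟨1 :: [12, 1, 12, 9, 8, 4, 3], [22, 0, 22, 0], 52, true⟩) (lall (memL L) [12, 1, 12, 9, 8, 4, 3]) = true := by decide +kernel

theorem rot1_7 : T.rot 1 [12, 9, 8, 4, 3, 1, 12] (sel (ones 135) ip1 7) = true := by decide +kernel

theorem rot1_7r : band (Rule.ok (2 * 12) EX RL ⟨1 :: [12, 9, 8, 4, 3, 1, 12], [22, 0], 52, true⟩) (lall (memL L) [12, 9, 8, 4, 3, 1, 12]) = true := by decide +kernel

theorem rot1_8 : T.rot 1 [12, 1, 3, 4, 8, 9, 12] (sel (ones 135) ip1 8) = true := by decide +kernel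

theorem rot1_8r : band (Rule.ok (2 * 12) EX RL ⟨1 :: [12, 1, 3, 4, 8, 9, 12], [22], 52, false⟩) (lall (memL L) [12, 1, 3, 4, 8, 9, 12]) = true := by decide +kernel

theorem cov1 : T.cover 1 [(sel (ones 135) ip1 1), (sel (ones 135) ip1 2), (sel (ones 135) ip1 3), (sel (ones 135) ip1 4), (sel (ones 135) ip1 5), (sel (ones 135) ip1 6), (sel (ones 135) ip1 7), (sel (ones 135) ip1 8), 1] = true := by decide +kernel

theorem tl1 : T.treeLt 8 1 = true := by decide +kernel

theorem rot2_1 : T.rot 2 [1, 2, 1] (sel (ones 135) ip2 1) = true := by decide +kernel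

theorem rot2_1r : band (Rule.ok (2 * 12) EX RL ⟨2 :: [1, 2, 1], [], 0, true⟩) (lall (memL L) [1, 2, 1]) = true := by decide +kernel

theorem rot2_2 : T.rot 2 [10, 2, 10] (sel (ones 135) ip2 2) = true := by decide +kernel

theorem rot2_2r : band (Rule.ok (2 * 12) EX RL ⟨2 :: [10, 2, 10], [], 16, false⟩) (lall (memL L) [10, 2, 10]) = true := by decide +kernel

theorem rot2_3 : T.rot 2 [11, 3, 11] (sel (ones 135) ip2 3) = true := by decide +kernel

theorem rot2_3r : band (Rule.ok (2 * 12) EX RL ⟨2 :: [11, 3, 11], [20], 46, false⟩) (lall (memL L) [11, 3, 11]) = true := by decide +kernel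

theorem rot2_4 : T.rot 2 [8, 2, 3, 8] (sel (ones 135) ip2 4) = true := by decide +kernel

theorem rot2_4r : band (Rule.ok (2 * 12) EX RL ⟨2 :: [8, 2, 3, 8], [4, 14], 14, true⟩) (lall (memL L) [8, 2, 3, 8]) = true := by decide +kernel

theorem rot2_5 : T.rot 2 [9, 2, 4, 9] (sel (ones 135) ip2 5) = true := by decide +kernel

theorem rot2_5r : band (Rule.ok (2 * 12) EX RL ⟨2 :: [9, 2, 4, 9], [6, 16], 15, true⟩) (lall (memL L) [9, 2, 4, 9]) = true := by decide +kernel

theorem rot2_6 : T.rot 2 [12, 7, 6, 4, 3, 2, 12] (sel (ones 135) ip2 6) = true := by decide +kernel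

theorem rot2_6r : band (Rule.ok (2 * 12) EX RL ⟨2 :: [12, 7, 6, 4, 3, 2, 12], [22, 2], 53, true⟩) (lall (memL L) [12, 7, 6, 4, 3, 2, 12]) = true := by decide +kernel

theorem cov2 : T.cover 2 [(sel (ones 135) ip2 1), (sel (ones 135) ip2 2), (sel (ones 135) ip2 3), (sel (ones 135) ip2 4), (sel (ones 135) ip2 5), (sel (ones 135) ip2 6), 1] = true := by decide +kernel

theorem tl2 : Nat.beq (T.let 2).tt 0 = true := by decide +kernel

theorem rot3_1 : T.rot 3 [1, 3, 1] (sel (ones 135) ip3 1) = true := by decide +kernel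

theorem rot3_1r : band (Rule.ok (2 * 12) EX RL ⟨3 :: [1, 3, 1], [], 1, true⟩) (lall (memL L) [1, 3, 1]) = true := by decide +kernel

theorem rot3_2 : T.rot 3 [8, 3, 8] (sel (ones 135) ip3 2) = true := by decide +kernel

theorem rot3_2r : band (Rule.ok (2 * 12) EX RL ⟨3 :: [8, 3, 8], [], 21, false⟩) (lall (memL L) [8, 3, 8]) = true := by decide +kernel

theorem rot3_3 : T.rot 3 [11, 2, 11] (sel (ones 135) ip3 3) = true := by decide +kernel

theorem rot3_3r : band (Rule.ok (2 * 12) EX RL ⟨3 :: [11, 2, 11], [], 46, true⟩) (lall (memL L) [11, 2, 11]) = true := by decide +kernel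

theorem rot3_4 : T.rot 3 [12, 4, 12] (sel (ones 135) ip3 4) = true := by decide +kernel

theorem rot3_4r : band (Rule.ok (2 * 12) EX RL ⟨3 :: [12, 4, 12], [22], 54, false⟩) (lall (memL L) [12, 4, 12]) = true := by decide +kernel

theorem rot3_5 : T.rot 3 [10, 3, 4, 10] (sel (ones 135) ip3 5) = true := by decide +kernel

theorem rot3_5r : band (Rule.ok (2 * 12) EX RL ⟨3 :: [10, 3, 4, 10], [6, 18], 23, true⟩) (lall (memL L) [10, 3, 4, 10]) = true := by decide +kernel

theorem cov3 : T.cover 3 [(sel (ones 135) ip3 1), (sel (ones 135) ip3 2), (sel (ones 135) ip3 3), (sel (ones 135) ip3 4), (sel (ones 135) ip3 5), 1] = true := by decide +kernel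

theorem tl3 : Nat.beq (T.let 3).tt 0 = true := by decide +kernel

theorem rot4_1 : T.rot 4 [1, 4, 1] (sel (ones 135) ip4 1) = true := by decide +kernel

theorem rot4_1r : band (Rule.ok (2 * 12) EX RL ⟨4 :: [1, 4, 1], [], 2, true⟩) (lall (memL L) [1, 4, 1]) = true := by decide +kernel

theorem rot4_2 : T.rot 4 [8, 4, 8] (sel (ones 135) ip4 2) = true := by decide +kernel

theorem rot4_2r : band (Rule.ok (2 * 12) EX RL ⟨4 :: [8, 4, 8], [], 27, false⟩) (lall (memL L) [8, 4, 8]) = true := by decide +kernel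

theorem rot4_3 : T.rot 4 [10, 4, 10] (sel (ones 135) ip4 3) = true := by decide +kernel

theorem rot4_3r : band (Rule.ok (2 * 12) EX RL ⟨4 :: [10, 4, 10], [], 29, false⟩) (lall (memL L) [10, 4, 10]) = true := by decide +kernel

theorem rot4_4 : T.rot 4 [11, 4, 11] (sel (ones 135) ip4 4) = true := by decide +kernel

theorem rot4_4r : band (Rule.ok (2 * 12) EX RL ⟨4 :: [11, 4, 11], [], 47, true⟩) (lall (memL L) [11, 4, 11]) = true := by decide +kernel

theorem rot4_5 : T.rot 4 [12, 3, 12] (sel (ones 135) ip4 5) = true := by decide +kernel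

theorem rot4_5r : band (Rule.ok (2 * 12) EX RL ⟨4 :: [12, 3, 12], [], 54, true⟩) (lall (memL L) [12, 3, 12]) = true := by decide +kernel

theorem cov4 : T.cover 4 [(sel (ones 135) ip4 1), (sel (ones 135) ip4 2), (sel (ones 135) ip4 3), (sel (ones 135) ip4 4), (sel (ones 135) ip4 5), 1] = true := by decide +kernel

theorem tl4 : Nat.beq (T.let 4).tt 0 = true := by decide +kernel

theorem rot5_1 : T.rot 5 [10, 5, 10] (sel (ones 135) ip5 1) = true := by decide +kernel

theorem rot5_1r : band (Rule.ok (2 * 12) EX RL ⟨5 :: [10, 5, 10], [], 34, false⟩) (lall (memL L) [10, 5, 10]) = true := by decide +kernel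

theorem rot5_2 : T.rot 5 [11, 6, 11] (sel (ones 135) ip5 2) = true := by decide +kernel

theorem rot5_2r : band (Rule.ok (2 * 12) EX RL ⟨5 :: [11, 6, 11], [20], 48, false⟩) (lall (memL L) [11, 6, 11]) = true := by decide +kernel

theorem rot5_3 : T.rot 5 [1, 2, 5, 1] (sel (ones 135) ip5 3) = true := by decide +kernel

theorem rot5_3r : band (Rule.ok (2 * 12) EX RL ⟨5 :: [1, 2, 5, 1], [0, 8], 3, true⟩) (lall (memL L) [1, 2, 5, 1]) = true := by decide +kernel

theorem rot5_4 : T.rot 5 [8, 5, 6, 8] (sel (ones 135) ip5 4) = true := by decide +kernel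

theorem rot5_4r : band (Rule.ok (2 * 12) EX RL ⟨5 :: [8, 5, 6, 8], [10, 14], 32, true⟩) (lall (memL L) [8, 5, 6, 8]) = true := by decide +kernel

theorem rot5_5 : T.rot 5 [9, 5, 7, 9] (sel (ones 135) ip5 5) = true := by decide +kernel

theorem rot5_5r : band (Rule.ok (2 * 12) EX RL ⟨5 :: [9, 5, 7, 9], [12, 16], 33, true⟩) (lall (memL L) [9, 5, 7, 9]) = true := by decide +kernel

theorem rot5_6 : T.rot 5 [12, 4, 3, 5, 12] (sel (ones 135) ip5 6) = true := by decide +kernel

theorem rot5_6r : band (Rule.ok (2 * 12) EX RL ⟨5 :: [12, 4, 3, 5, 12], [22, 8], 55, true⟩) (lall (memL L) [12, 4, 3, 5, 12]) = true := by decide +kernel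

theorem cov5 : T.cover 5 [(sel (ones 135) ip5 1), (sel (ones 135) ip5 2), (sel (ones 135) ip5 3), (sel (ones 135) ip5 4), (sel (ones 135) ip5 5), (sel (ones 135) ip5 6), 1] = true := by decide +kernel

theorem tl5 : Nat.beq (T.let 5).tt 0 = true := by decide +kernel

theorem rot6_1 : T.rot 6 [8, 6, 8] (sel (ones 135) ip6 1) = true := by decide +kernel

theorem rot6_1r : band (Rule.ok (2 * 12) EX RL ⟨6 :: [8, 6, 8], [], 36, false⟩) (lall (memL L) [8, 6, 8]) = true := by decide +kernel

theorem rot6_2 : T.rot 6 [11, 5, 11] (sel (ones 135) ip6 2) = true := by decide +kernel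

theorem rot6_2r : band (Rule.ok (2 * 12) EX RL ⟨6 :: [11, 5, 11], [], 48, true⟩) (lall (memL L) [11, 5, 11]) = true := by decide +kernel

theorem rot6_3 : T.rot 6 [12, 7, 12] (sel (ones 135) ip6 3) = true := by decide +kernel

theorem rot6_3r : band (Rule.ok (2 * 12) EX RL ⟨6 :: [12, 7, 12], [22], 56, false⟩) (lall (memL L) [12, 7, 12]) = true := by decide +kernel

theorem rot6_4 : T.rot 6 [1, 3, 6, 1] (sel (ones 135) ip6 4) = true := by decide +kernel

theorem rot6_4r : band (Rule.ok (2 * 12) EX RL ⟨6 :: [1, 3, 6, 1], [0, 10], 4, true⟩) (lall (memL L) [1, 3, 6, 1]) = true := by decide +kernel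

theorem rot6_5 : T.rot 6 [10, 6, 7, 10] (sel (ones 135) ip6 5) = true := by decide +kernel

theorem rot6_5r : band (Rule.ok (2 * 12) EX RL ⟨6 :: [10, 6, 7, 10], [12, 18], 38, true⟩) (lall (memL L) [10, 6, 7, 10]) = true := by decide +kernel

theorem cov6 : T.cover 6 [(sel (ones 135) ip6 1), (sel (ones 135) ip6 2), (sel (ones 135) ip6 3), (sel (ones 135) ip6 4), (sel (ones 135) ip6 5), 1] = true := by decide +kernel

theorem tl6 : Nat.beq (T.let 6).tt 0 = true := by decide +kernel

theorem rot7_1 : T.rot 7 [8, 7, 8] (sel (ones 135) ip7 1) = true := by decide +kernel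

theorem rot7_1r : band (Rule.ok (2 * 12) EX RL ⟨7 :: [8, 7, 8], [], 39, false⟩) (lall (memL L) [8, 7, 8]) = true := by decide +kernel

theorem rot7_2 : T.rot 7 [10, 7, 10] (sel (ones 135) ip7 2) = true := by decide +kernel

theorem rot7_2r : band (Rule.ok (2 * 12) EX RL ⟨7 :: [10, 7, 10], [], 41, false⟩) (lall (memL L) [10, 7, 10]) = true := by decide +kernel

theorem rot7_3 : T.rot 7 [11, 7, 11] (sel (ones 135) ip7 3) = true := by decide +kernel

theorem rot7_3r : band (Rule.ok (2 * 12) EX RL ⟨7 :: [11, 7, 11], [], 49, true⟩) (lall (memL L) [11, 7, 11]) = true := by decide +kernel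

theorem rot7_4 : T.rot 7 [12, 6, 12] (sel (ones 135) ip7 4) = true := by decide +kernel

theorem rot7_4r : band (Rule.ok (2 * 12) EX RL ⟨7 :: [12, 6, 12], [], 56, true⟩) (lall (memL L) [12, 6, 12]) = true := by decide +kernel

theorem rot7_5 : T.rot 7 [1, 4, 7, 1] (sel (ones 135) ip7 5) = true := by decide +kernel

theorem rot7_5r : band (Rule.ok (2 * 12) EX RL ⟨7 :: [1, 4, 7, 1], [0, 12], 5, true⟩) (lall (memL L) [1, 4, 7, 1]) = true := by decide +kernel

theorem cov7 : T.cover 7 [(sel (ones 135) ip7 1), (sel (ones 135) ip7 2), (sel (ones 135) ip7 3), (sel (ones 135) ip7 4), (sel (ones 135) ip7 5), 1] = true := by decide +kernel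

theorem tl7 : Nat.beq (T.let 7).tt 0 = true := by decide +kernel

theorem rot8_1 : T.rot 8 [8] (sel (ones 135) ip8 1) = true := by decide +kernel

theorem rot8_1r : band (Rule.ok (2 * 12) EX RL ⟨8 :: [8], [], 60, false⟩) (lall (memL L) [8]) = true := by decide +kernel

theorem rot8_2 : T.rot 8 [1, 8, 1] (sel (ones 135) ip8 2) = true := by decide +kernel

theorem rot8_2r : band (Rule.ok (2 * 12) EX RL ⟨8 :: [1, 8, 1], [], 6, true⟩) (lall (memL L) [1, 8, 1]) = true := by decide +kernel

theorem rot8_3 : T.rot 8 [9, 8, 9] (sel (ones 135) ip8 3) = true := by decide +kernel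

theorem rot8_3r : band (Rule.ok (2 * 12) EX RL ⟨8 :: [9, 8, 9], [], 42, false⟩) (lall (memL L) [9, 8, 9]) = true := by decide +kernel

theorem rot8_4 : T.rot 8 [12, 9, 12] (sel (ones 135) ip8 4) = true := by decide +kernel

theorem rot8_4r : band (Rule.ok (2 * 12) EX RL ⟨8 :: [12, 9, 12], [22], 57, false⟩) (lall (memL L) [12, 9, 12]) = true := by decide +kernel

theorem rot8_5 : T.rot 8 [10, 8, 9, 10] (sel (ones 135) ip8 5) = true := by decide +kernel

theorem rot8_5r : band (Rule.ok (2 * 12) EX RL ⟨8 :: [10, 8, 9, 10], [16, 18], 43, true⟩) (lall (memL L) [10, 8, 9, 10]) = true := by decide +kernel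

theorem rot8_6 : T.rot 8 [9, 10, 8, 10] (sel (ones 135) ip8 6) = true := by decide +kernel

theorem rot8_6r : band (Rule.ok (2 * 12) EX RL ⟨8 :: [9, 10, 8, 10], [14], 43, true⟩) (lall (memL L) [9, 10, 8, 10]) = true := by decide +kernel

theorem rot8_7 : T.rot 8 [10, 8, 10, 9] (sel (ones 135) ip8 7) = true := by decide +kernel

theorem rot8_7r : band (Rule.ok (2 * 12) EX RL ⟨8 :: [10, 8, 10, 9], [], 43, false⟩) (lall (memL L) [10, 8, 10, 9]) = true := by decide +kernel

theorem rot8_8 : T.rot 8 [11, 8, 11, 8, 11] (sel (ones 135) ip8 8) = true := by decide +kernel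

theorem rot8_8r : band (Rule.ok (2 * 12) EX RL ⟨8 :: [11, 8, 11, 8, 11], [], 50, true⟩) (lall (memL L) [11, 8, 11, 8, 11]) = true := by decide +kernel

theorem cov8 : T.cover 8 [(sel (ones 135) ip8 1), (sel (ones 135) ip8 2), (sel (ones 135) ip8 3), (sel (ones 135) ip8 4), (sel (ones 135) ip8 5), (sel (ones 135) ip8 6), (sel (ones 135) ip8 7), (sel (ones 135) ip8 8), 1] = true := by decide +kernel

theorem tl8 : T.treeLt 8 8 = true := by decide +kernel

theorem rot9_1 : T.rot 9 [1, 9, 1] (sel (ones 135) ip9 1) = true := by decide +kernel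

theorem rot9_1r : band (Rule.ok (2 * 12) EX RL ⟨9 :: [1, 9, 1], [], 7, true⟩) (lall (memL L) [1, 9, 1]) = true := by decide +kernel

theorem rot9_2 : T.rot 9 [8, 9, 8] (sel (ones 135) ip9 2) = true := by decide +kernel

theorem rot9_2r : band (Rule.ok (2 * 12) EX RL ⟨9 :: [8, 9, 8], [], 42, true⟩) (lall (memL L) [8, 9, 8]) = true := by decide +kernel

theorem rot9_3 : T.rot 9 [10, 9, 10] (sel (ones 135) ip9 3) = true := by decide +kernel

theorem rot9_3r : band (Rule.ok (2 * 12) EX RL ⟨9 :: [10, 9, 10], [], 44, false⟩) (lall (memL L) [10, 9, 10]) = true := by decide +kernel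

theorem rot9_4 : T.rot 9 [11, 10, 11] (sel (ones 135) ip9 4) = true := by decide +kernel

theorem rot9_4r : band (Rule.ok (2 * 12) EX RL ⟨9 :: [11, 10, 11], [20], 51, false⟩) (lall (memL L) [11, 10, 11]) = true := by decide +kernel

theorem rot9_5 : T.rot 9 [12, 8, 12] (sel (ones 135) ip9 5) = true := by decide +kernel

theorem rot9_5r : band (Rule.ok (2 * 12) EX RL ⟨9 :: [12, 8, 12], [], 57, true⟩) (lall (memL L) [12, 8, 12]) = true := by decide +kernel

theorem rot9_6 : T.rot 9 [10, 8, 10, 8] (sel (ones 135) ip9 6) = true := by decide +kernel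

theorem rot9_6r : band (Rule.ok (2 * 12) EX RL ⟨9 :: [10, 8, 10, 8], [], 43, true⟩) (lall (memL L) [10, 8, 10, 8]) = true := by decide +kernel

theorem rot9_7 : T.rot 9 [8, 10, 8, 10] (sel (ones 135) ip9 7) = true := by decide +kernel

theorem rot9_7r : band (Rule.ok (2 * 12) EX RL ⟨9 :: [8, 10, 8, 10], [16], 43, false⟩) (lall (memL L) [8, 10, 8, 10]) = true := by decide +kernel

theorem rot9_8 : T.rot 9 [8, 4, 3, 1, 12, 1, 12] (sel (ones 135) ip9 8) = true := by decide +kernel

theorem rot9_8r : band (Rule.ok (2 * 12) EX RL ⟨9 :: [8, 4, 3, 1, 12, 1, 12], [], 52, true⟩) (lall (memL L) [8, 4, 3, 1, 12, 1, 12]) = true := by decide +kernel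

theorem rot9_9 : T.rot 9 [12, 1, 12, 1, 3, 4, 8] (sel (ones 135) ip9 9) = true := by decide +kernel

theorem rot9_9r : band (Rule.ok (2 * 12) EX RL ⟨9 :: [12, 1, 12, 1, 3, 4, 8], [16], 52, false⟩) (lall (memL L) [12, 1, 12, 1, 3, 4, 8]) = true := by decide +kernel

theorem cov9 : T.cover 9 [(sel (ones 135) ip9 1), (sel (ones 135) ip9 2), (sel (ones 135) ip9 3), (sel (ones 135) ip9 4), (sel (ones 135) ip9 5), (sel (ones 135) ip9 6), (sel (ones 135) ip9 7), (sel (ones 135) ip9 8), (sel (ones 135) ip9 9), 1] = true := by decide +kernel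

theorem tl9 : Nat.beq (T.let 9).tt 0 = true := by decide +kernel

theorem rot10_1 : T.rot 10 [10] (sel (ones 135) ip10 1) = true := by decide +kernel

theorem rot10_1r : band (Rule.ok (2 * 12) EX RL ⟨10 :: [10], [], 60, false⟩) (lall (memL L) [10]) = true := by decide +kernel

theorem rot10_2 : T.rot 10 [1, 10, 1] (sel (ones 135) ip10 2) = true := by decide +kernel

theorem rot10_2r : band (Rule.ok (2 * 12) EX RL ⟨10 :: [1, 10, 1], [], 8, true⟩) (lall (memL L) [1, 10, 1]) = true := by decide +kernel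

theorem rot10_3 : T.rot 10 [9, 10, 9] (sel (ones 135) ip10 3) = true := by decide +kernel

theorem rot10_3r : band (Rule.ok (2 * 12) EX RL ⟨10 :: [9, 10, 9], [], 44, true⟩) (lall (memL L) [9, 10, 9]) = true := by decide +kernel

theorem rot10_4 : T.rot 10 [11, 9, 11] (sel (ones 135) ip10 4) = true := by decide +kernel

theorem rot10_4r : band (Rule.ok (2 * 12) EX RL ⟨10 :: [11, 9, 11], [], 51, true⟩) (lall (memL L) [11, 9, 11]) = true := by decide +kernel

theorem rot10_5 : T.rot 10 [8, 10, 8, 9] (sel (ones 135) ip10 5) = true := by decide +kernel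

theorem rot10_5r : band (Rule.ok (2 * 12) EX RL ⟨10 :: [8, 10, 8, 9], [16], 43, true⟩) (lall (memL L) [8, 10, 8, 9]) = true := by decide +kernel

theorem rot10_6 : T.rot 10 [8, 9, 10, 8] (sel (ones 135) ip10 6) = true := by decide +kernel

theorem rot10_6r : band (Rule.ok (2 * 12) EX RL ⟨10 :: [8, 9, 10, 8], [14, 18], 43, true⟩) (lall (memL L) [8, 9, 10, 8]) = true := by decide +kernel

theorem rot10_7 : T.rot 10 [8, 10, 9, 8] (sel (ones 135) ip10 7) = true := by decide +kernel

theorem rot10_7r : band (Rule.ok (2 * 12) EX RL ⟨10 :: [8, 10, 9, 8], [14], 43, false⟩) (lall (memL L) [8, 10, 9, 8]) = true := by decide +kernel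

theorem rot10_8 : T.rot 10 [12, 10, 12, 10, 12] (sel (ones 135) ip10 8) = true := by decide +kernel

theorem rot10_8r : band (Rule.ok (2 * 12) EX RL ⟨10 :: [12, 10, 12, 10, 12], [], 58, true⟩) (lall (memL L) [12, 10, 12, 10, 12]) = true := by decide +kernel

theorem cov10 : T.cover 10 [(sel (ones 135) ip10 1), (sel (ones 135) ip10 2), (sel (ones 135) ip10 3), (sel (ones 135) ip10 4), (sel (ones 135) ip10 5), (sel (ones 135) ip10 6), (sel (ones 135) ip10 7), (sel (ones 135) ip10 8), 1] = true := by decide +kernel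

theorem tl10 : T.treeLt 8 10 = true := by decide +kernel

theorem rot11_1 : T.rot 11 [11] (sel (ones 135) ip11 1) = true := by decide +kernel

theorem rot11_1r : band (Rule.ok (2 * 12) EX RL ⟨11 :: [11], [], 60, false⟩) (lall (memL L) [11]) = true := by decide +kernel

theorem rot11_2 : T.rot 11 [1, 11, 1] (sel (ones 135) ip11 2) = true := by decide +kernel

theorem rot11_2r : band (Rule.ok (2 * 12) EX RL ⟨11 :: [1, 11, 1], [], 45, false⟩) (lall (memL L) [1, 11, 1]) = true := by decide +kernel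

theorem rot11_3 : T.rot 11 [9, 11, 10] (sel (ones 135) ip11 3) = true := by decide +kernel

theorem rot11_3r : band (Rule.ok (2 * 12) EX RL ⟨11 :: [9, 11, 10], [], 51, false⟩) (lall (memL L) [9, 11, 10]) = true := by decide +kernel

theorem rot11_4 : T.rot 11 [10, 11, 9] (sel (ones 135) ip11 4) = true := by decide +kernel

theorem rot11_4r : band (Rule.ok (2 * 12) EX RL ⟨11 :: [10, 11, 9], [20], 51, true⟩) (lall (memL L) [10, 11, 9]) = true := by decide +kernel

theorem rot11_5 : T.rot 11 [8, 11, 8, 11, 8] (sel (ones 135) ip11 5) = true := by decide +kernel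

theorem rot11_5r : band (Rule.ok (2 * 12) EX RL ⟨11 :: [8, 11, 8, 11, 8], [], 50, false⟩) (lall (memL L) [8, 11, 8, 11, 8]) = true := by decide +kernel

theorem rot11_6 : T.rot 11 [12, 11, 12, 11, 12, 11, 12, 11, 12] (sel (ones 135) ip11 6) = true := by decide +kernel

theorem rot11_6r : band (Rule.ok (2 * 12) EX RL ⟨11 :: [12, 11, 12, 11, 12, 11, 12, 11, 12], [], 59, true⟩) (lall (memL L) [12, 11, 12, 11, 12, 11, 12, 11, 12]) = true := by decide +kernel

theorem cov11 : T.cover 11 [(sel (ones 135) ip11 1), (sel (ones 135) ip11 2), (sel (ones 135) ip11 3), (sel (ones 135) ip11 4), (sel (ones 135) ip11 5), (sel (ones 135) ip11 6)] = true := by decide +kernel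

theorem tl11 : T.treeLt 8 11 = true := by decide +kernel

theorem rot12_1 : T.rot 12 [12] (sel (ones 135) ip12 1) = true := by decide +kernel

theorem rot12_1r : band (Rule.ok (2 * 12) EX RL ⟨12 :: [12], [], 60, false⟩) (lall (memL L) [12]) = true := by decide +kernel

theorem rot12_2 : T.rot 12 [8, 12, 9] (sel (ones 135) ip12 2) = true := by decide +kernel

theorem rot12_2r : band (Rule.ok (2 * 12) EX RL ⟨12 :: [8, 12, 9], [], 57, false⟩) (lall (memL L) [8, 12, 9]) = true := by decide +kernel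

theorem rot12_3 : T.rot 12 [9, 12, 8] (sel (ones 135) ip12 3) = true := by decide +kernel

theorem rot12_3r : band (Rule.ok (2 * 12) EX RL ⟨12 :: [9, 12, 8], [22], 57, true⟩) (lall (memL L) [9, 12, 8]) = true := by decide +kernel

theorem rot12_4 : T.rot 12 [10, 12, 10, 12, 10] (sel (ones 135) ip12 4) = true := by decide +kernel

theorem rot12_4r : band (Rule.ok (2 * 12) EX RL ⟨12 :: [10, 12, 10, 12, 10], [], 58, false⟩) (lall (memL L) [10, 12, 10, 12, 10]) = true := by decide +kernel

theorem rot12_5 : T.rot 12 [1, 12, 9, 8, 4, 3, 1] (sel (ones 135) ip12 5) = true := by decide +kernel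

theorem rot12_5r : band (Rule.ok (2 * 12) EX RL ⟨12 :: [1, 12, 9, 8, 4, 3, 1], [22, 0, 22], 52, true⟩) (lall (memL L) [1, 12, 9, 8, 4, 3, 1]) = true := by decide +kernel

theorem rot12_6 : T.rot 12 [9, 8, 4, 3, 1, 12, 1] (sel (ones 135) ip12 6) = true := by decide +kernel

theorem rot12_6r : band (Rule.ok (2 * 12) EX RL ⟨12 :: [9, 8, 4, 3, 1, 12, 1], [22], 52, true⟩) (lall (memL L) [9, 8, 4, 3, 1, 12, 1]) = true := by decide +kernel

theorem rot12_7 : T.rot 12 [1, 12, 1, 3, 4, 8, 9] (sel (ones 135) ip12 7) = true := by decide +kernel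

theorem rot12_7r : band (Rule.ok (2 * 12) EX RL ⟨12 :: [1, 12, 1, 3, 4, 8, 9], [], 52, false⟩) (lall (memL L) [1, 12, 1, 3, 4, 8, 9]) = true := by decide +kernel

theorem rot12_8 : T.rot 12 [1, 3, 4, 8, 9, 12, 1] (sel (ones 135) ip12 8) = true := by decide +kernel

theorem rot12_8r : band (Rule.ok (2 * 12) EX RL ⟨12 :: [1, 3, 4, 8, 9, 12, 1], [22, 0], 52, false⟩) (lall (memL L) [1, 3, 4, 8, 9, 12, 1]) = true := by decide +kernel

theorem rot12_9 : T.rot 12 [11, 12, 11, 12, 11, 12, 11, 12, 11] (sel (ones 135) ip12 9) = true := by decide +kernel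

theorem rot12_9r : band (Rule.ok (2 * 12) EX RL ⟨12 :: [11, 12, 11, 12, 11, 12, 11, 12, 11], [], 59, false⟩) (lall (memL L) [11, 12, 11, 12, 11, 12, 11, 12, 11]) = true := by decide +kernel

theorem cov12 : T.cover 12 [(sel (ones 135) ip12 1), (sel (ones 135) ip12 2), (sel (ones 135) ip12 3), (sel (ones 135) ip12 4), (sel (ones 135) ip12 5), (sel (ones 135) ip12 6), (sel (ones 135) ip12 7), (sel (ones 135) ip12 8), (sel (ones 135) ip12 9)] = true := by decide +kernel

theorem tl12 : T.treeLt 8 12 = true := by decide +kernel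

end Cfsg.Agent.Spor.HLn1
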